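import Cfsg.Agent.H145.BR.Defs
import Cfsg.Agent.H775.S4790.Quot
import Cfsg.Agent.H608.BlockRank
import Cfsg.Agent.Blocks.ExtendedFMT
import Cfsg.Agent.Blocks.PRegular
import Cfsg.Agent.Blocks.PrincipalSection
import Cfsg.Agent.Characters.GaloisIrr
import Cfsg.Agent.H657.PRational
import Cfsg.Agent.S0919
import Cfsg.Agent.S0936
import Cfsg.Agent.S4652
import Cfsg.Agent.S4695
import Cfsg.Agent.S4696
import Cfsg.Agent.FastGrp
import Cfsg.Agent.Prune
set_option linter.all false
prune_inst 0x7f00000000000000000000000000000000000000000000000000000000000000000000000000000000000000000000000000000000000000000000000000000000000000000000000000000000000000003fffffffffffffffffffffffffffbeffbdffffffff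
open scoped Cfsg.Agent.FastGrp

/-!
# S4891 (TEAM B0-RAT), the row of the simple groups with cyclic Sylow `p`-subgroups (helper734)

* `block`   : S4695 and S4696 for the principal block of a group with a cyclic Sylow subgroup;
* `Canon`   : `χ` is determined in the principal block by its values on the `p`-regular elements;
* `exists_canon`, `card_canon_lt` : there are `e ≥ 2` such characters, and less than `p` nontrivial ones;
* `rowT_cyc` : the row.
-/

set_option autoImplicit false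

namespace Cfsg.Agent.H734.RB

open Subgroup Cfsg Cfsg.Agent.Characters.Core Cfsg.Agent.H145.BR

universe u

variable {G : Type u} [Group G] [Finite G] {p : ℕ} [hp : Fact p.Prime] {M : Ideal AlgInt}

/-- The principal block in the situation of S4695 and S4696. -/
theorem block (hM : IsPModular p M) (P : Sylow p G) (hcyc : IsCyclic (P : Subgroup G)) {a : ℕ} (ha : 1 ≤ a)
    (hPa : Nat.card (P : Subgroup G) = p ^ a) {e : ℕ}
    (he : (centralizer ((P : Subgroup G) : Set G)).relIndex (normalizer ((P : Subgroup G) : Set G)) = e) :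
    e ∣ p - 1 ∧ blockRank p (principalBlock M G) = e ∧
      (∀ χ ∈ principalBlock M G, blockHeight p (principalBlock M G) (χ : G → ℂ) = 0) ∧
      ∃ X Y : Set (IrrCharacter G), principalBlock M G = X ∪ Y ∧ Disjoint X Y ∧
      Nat.card X = e ∧ Nat.card Y = (p ^ a - 1) / e ∧
      (∀ ψ ∈ Y, ∀ ψ' ∈ Y, ∀ g : G, ¬ p ∣ orderOf g → (ψ : G → ℂ) g = (ψ' : G → ℂ) g) ∧
      ∃ (δ : IrrCharacter G → ℤ) (δ₀ : ℤ), (∀ χ ∈ X, δ χ = 1 ∨ δ χ = -1) ∧ (δ₀ = 1 ∨ δ₀ = -1) ∧
      (∀ ψ ∈ Y, ∀ g : G, ¬ p ∣ orderOf g → (δ₀ : ℂ) * (ψ : G → ℂ) g + ∑ᶠ χ ∈ X, (δ χ : ℂ) * (χ : G → ℂ) g = 0) := by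
  classical
  have := Fintype.ofFinite G
  have hMp := Blocks.Local.isPrime_of_isPModular hM
  have hcomm : ∀ x ∈ (P : Subgroup G), ∀ y ∈ (P : Subgroup G), x * y = y * x := by
    intro x hx y hy
    have := (IsCyclic.commGroup (α := (P : Subgroup G))).mul_comm ⟨x, hx⟩ ⟨y, hy⟩
    exact congrArg Subtype.val this
  have hPC : (P : Subgroup G) ≤ centralizer ((P : Subgroup G) : Set G) := fun x hx =>
    mem_centralizer_iff.2 fun y hy => hcomm y hy x hx
  have hB : IsPBlock M (principalBlock M G) := Blocks.PrincipalSection.isPBlock_principalBlock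
  have hBD : IsDefectGroup p M (principalBlock M G) (P : Subgroup G) := (S4652.result p M hM _).2 ⟨P, rfl⟩
  set C := centralizer ((P : Subgroup G) : Set G) with hC
  have hb : IsPBlock M (principalBlock M C) := Blocks.PrincipalSection.isPBlock_principalBlock
  have hdef : InducedBlockDefined M C (principalBlock M C) :=
    S0919.result p M hM (P : Subgroup G) C P.2 hPC le_rfl (centralizer_le_normalizer _) _ hb
  have hind : IsInducedBlock M C (principalBlock M C) (principalBlock M G) := (S0936.result p M hM C _ hdef).2 rfl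
  have hT : ∀ g : G, g ∈ normalizer ((P : Subgroup G) : Set G) ↔ (g ∈ normalizer ((P : Subgroup G) : Set G) ∧
      ∀ θ ∈ principalBlock M C, ∀ θ' : IrrCharacter C,
        (∀ h h' : C, (h' : G) = g * h * g⁻¹ → (θ' : C → ℂ) h' = (θ : C → ℂ) h) → θ' ∈ principalBlock M C) := by
    intro g
    refine ⟨fun hg => ⟨hg, fun θ hθ θ' h => ?_⟩, fun h => h.1⟩
    have hgC : ∀ x : G, x ∈ C ↔ g * x * g⁻¹ ∈ C := by
      intro x
      rw [mem_centralizer_iff, mem_centralizer_iff]
      constructor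
      · intro hx y hy
        have h1 : g⁻¹ * y * g ∈ (P : Subgroup G) := by
          rw [← inv_mem_iff] at hg
          simpa using (mem_normalizer_iff.1 hg y).1 hy
        have h2 := hx _ h1
        calc y * (g * x * g⁻¹) = g * (g⁻¹ * y * g * x) * g⁻¹ := by group
          _ = g * (x * (g⁻¹ * y * g)) * g⁻¹ := by rw [h2]
          _ = g * x * g⁻¹ * y := by group
      · intro hx y hy
        have h1 : g * y * g⁻¹ ∈ (P : Subgroup G) := (mem_normalizer_iff.1 hg y).1 hy
        have h2 := hx _ h1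
        have h3 : g * (y * x) * g⁻¹ = g * (x * y) * g⁻¹ := by
          calc g * (y * x) * g⁻¹ = g * y * g⁻¹ * (g * x * g⁻¹) := by group
            _ = g * x * g⁻¹ * (g * y * g⁻¹) := h2
            _ = _ := by group
        exact mul_left_cancel (mul_right_cancel h3)
    let α : C ≃* C :=
      { toFun := fun x => ⟨g * x * g⁻¹, (hgC x).1 x.2⟩
        invFun := fun x => ⟨g⁻¹ * x * g, by
          rw [hgC]
          have : g * (g⁻¹ * (x : G) * g) * g⁻¹ = x := by group
          rw [this]; exact x.2⟩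
        left_inv := fun x => Subtype.ext (by show g⁻¹ * (g * (x : G) * g⁻¹) * g = x; group)
        right_inv := fun x => Subtype.ext (by show g * (g⁻¹ * (x : G) * g) * g⁻¹ = x; group)
        map_mul' := fun x y => Subtype.ext (by
          show g * ((x : G) * y) * g⁻¹ = g * x * g⁻¹ * (g * y * g⁻¹)
          group) }
    have h1 : Blocks.ExtendedFMT.compIrr α θ' = θ := by
      apply Subtype.ext
      funext x
      exact h x (α x) rfl
    have h2 : θ' = Blocks.ExtendedFMT.compIrr α.symm θ := by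
      rw [← h1, Blocks.ExtendedFMT.compIrr_symm_compIrr]
    have h3 := Blocks.ExtendedFMT.sameBlock_compIrr (M := M) α.symm (θ := ⟨fun _ => 1, isIrr_one⟩) (ψ := θ) hθ
    rw [h2]
    exact h3
  obtain ⟨h0, h11, X, Y, h1, h2, h3, h4, h5, δ, δ₀, h6, h7, h8, -, -⟩ :=
    S4696.result p M hM (P : Subgroup G) hcyc a ha hPa (principalBlock M G) hB hBD
      (principalBlock M C) hind (normalizer ((P : Subgroup G) : Set G)) hT e he
  have h12 := S4695.result p M hM (P : Subgroup G) hcyc a ha hPa (principalBlock M G) hB hBD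
      (principalBlock M C) hind (normalizer ((P : Subgroup G) : Set G)) hT e he
  exact ⟨h0, h12, h11, X, Y, h1, h2, h3, h4, h5, δ, δ₀, h6, h7, h8⟩

/-- `χ` is determined by its values on the `p`-regular elements -/
def Canon (p : ℕ) (M : Ideal AlgInt) (χ : IrrCharacter G) : Prop :=
  χ ∈ principalBlock M G ∧ ∀ ψ ∈ principalBlock M G,
    (∀ g : G, ¬ p ∣ orderOf g → (ψ : G → ℂ) g = (χ : G → ℂ) g) → ψ = χ

omit [Finite G] hp in
theorem pReg_congr {χ ψ : G → ℂ} (h : ∀ g : G, ¬ p ∣ orderOf g → ψ g = χ g) :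
    H608.BlockRank.pReg p ψ = H608.BlockRank.pReg p χ := by
  funext g
  by_cases hg : IsPRegular p g
  · rw [H608.BlockRank.pReg_of hg, H608.BlockRank.pReg_of hg]
    exact h g hg
  · rw [H608.BlockRank.pReg_of_not hg, H608.BlockRank.pReg_of_not hg]

omit hp in
/-- **The members of `X` are determined by their values on the `p`-regular elements.** -/
theorem canon_of_mem {e : ℕ} (he2 : 2 ≤ e) (hrk : blockRank p (principalBlock M G) = e)
    {X Y : Set (IrrCharacter G)} (hXY : principalBlock M G = X ∪ Y) (hX : Nat.card X = e)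
    {δ : IrrCharacter G → ℤ} {δ₀ : ℤ} (hδ : ∀ χ ∈ X, δ χ = 1 ∨ δ χ = -1) (hδ₀ : δ₀ = 1 ∨ δ₀ = -1)
    (hrel : ∀ ψ ∈ Y, ∀ g : G, ¬ p ∣ orderOf g →
      (δ₀ : ℂ) * (ψ : G → ℂ) g + ∑ᶠ χ ∈ X, (δ χ : ℂ) * (χ : G → ℂ) g = 0) {χ : IrrCharacter G} (hχ : χ ∈ X) :
    Canon p M χ := by
  classical
  have hfin : Finite (IrrCharacter G) := finite_irr
  have hX0 : X.Finite := Set.toFinite _
  have : Fintype X := Fintype.ofFinite _
  let b : X → (G → ℂ) := fun χ => H608.BlockRank.pReg p ((χ : IrrCharacter G) : G → ℂ)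
  -- the relation
  have hrel' : ∀ ψ ∈ Y, H608.BlockRank.pReg p (ψ : G → ℂ) = ∑ χ : X, (-(δ₀ * δ (χ : IrrCharacter G) : ℤ) : ℂ) • b χ := by
    intro ψ hψ
    funext g
    rw [Finset.sum_apply]
    by_cases hg : IsPRegular p g
    · have h1 := hrel ψ hψ g hg
      rw [finsum_mem_eq_finite_toFinset_sum _ hX0] at h1
      have h2 : ∑ χ ∈ hX0.toFinset, (δ χ : ℂ) * (χ : G → ℂ) g =
          ∑ χ : X, (δ (χ : IrrCharacter G) : ℂ) * ((χ : IrrCharacter G) : G → ℂ) g := by
        rw [← Finset.sum_subtype (s := hX0.toFinset) (p := fun x => x ∈ X) (fun x => Set.Finite.mem_toFinset hX0)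
          (fun χ => (δ χ : ℂ) * (χ : G → ℂ) g)]
      rw [h2] at h1
      have h3 : ∀ χ : X, ((-(δ₀ * δ (χ : IrrCharacter G) : ℤ) : ℂ) • b χ) g =
          -(δ₀ : ℂ) * ((δ (χ : IrrCharacter G) : ℂ) * ((χ : IrrCharacter G) : G → ℂ) g) := by
        intro χ
        rw [Pi.smul_apply, smul_eq_mul]
        change _ * H608.BlockRank.pReg p _ g = _
        rw [H608.BlockRank.pReg_of hg]
        push_cast
        ring
      rw [Finset.sum_congr rfl fun χ _ => h3 χ, ← Finset.mul_sum, H608.BlockRank.pReg_of hg]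
      have h4 : (δ₀ : ℂ) * (δ₀ : ℂ) = 1 := by
        rcases hδ₀ with h | h <;> rw [h] <;> simp
      linear_combination (δ₀ : ℂ) * h1 - (ψ : G → ℂ) g * h4
    · rw [H608.BlockRank.pReg_of_not hg]
      symm
      refine Finset.sum_eq_zero fun χ _ => ?_
      rw [Pi.smul_apply]
      change _ • H608.BlockRank.pReg p _ g = 0
      rw [H608.BlockRank.pReg_of_not hg, smul_zero]
  -- linear independence
  have hspan : (H608.BlockRank.charSpan (principalBlock M G)).map (H608.BlockRank.pReg p) =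
      Submodule.span ℂ (Set.range b) := by
    apply le_antisymm
    · unfold H608.BlockRank.charSpan
      rw [Submodule.map_span, Submodule.span_le]
      rintro _ ⟨_, ⟨ψ, hψ, rfl⟩, rfl⟩
      rw [hXY] at hψ
      rcases hψ with h | h
      · exact Submodule.subset_span ⟨⟨ψ, h⟩, rfl⟩
      · change H608.BlockRank.pReg p (ψ : G → ℂ) ∈ _
        rw [hrel' ψ h]
        exact Submodule.sum_mem _ fun χ _ => Submodule.smul_mem _ _ (Submodule.subset_span ⟨χ, rfl⟩)
    · rw [Submodule.span_le]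
      rintro _ ⟨χ, rfl⟩
      refine Submodule.mem_map_of_mem (Submodule.subset_span ⟨χ, ?_, rfl⟩)
      rw [hXY]
      exact Or.inl χ.2
  have hli : LinearIndependent ℂ b := by
    rw [linearIndependent_iff_card_eq_finrank_span]
    rw [← Nat.card_eq_fintype_card, hX, ← hrk, H608.BlockRank.blockRank_eq, hspan]
    rfl
  refine ⟨by rw [hXY]; exact Or.inl hχ, fun ψ hψ hψχ => ?_⟩
  have h1 := pReg_congr hψχ
  rw [hXY] at hψ
  rcases hψ with h | h
  · have h2 : b ⟨ψ, h⟩ = b ⟨χ, hχ⟩ := h1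
    exact congrArg Subtype.val (hli.injective h2)
  · exfalso
    rw [hrel' ψ h] at h1
    have h2 : b ⟨χ, hχ⟩ = ∑ χ' : X, (if χ' = ⟨χ, hχ⟩ then (1 : ℂ) else 0) • b χ' := by
      simp
    have h3 : ∑ χ' : X, ((-(δ₀ * δ (χ' : IrrCharacter G) : ℤ) : ℂ) - (if χ' = ⟨χ, hχ⟩ then (1 : ℂ) else 0)) • b χ' = 0 := by
      rw [Finset.sum_congr rfl fun χ' _ => sub_smul _ _ _, Finset.sum_sub_distrib, ← h2, h1]
      exact sub_self _
    have h4 := Fintype.linearIndependent_iff.1 hli _ h3
    have hXn : 1 < X.ncard := by rw [← Nat.card_coe_set_eq, hX]; omega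
    obtain ⟨χ', hχ', hne⟩ := Set.exists_ne_of_one_lt_ncard hXn χ
    have h5 := h4 ⟨χ', hχ'⟩
    rw [if_neg (fun h => hne (congrArg Subtype.val h)), sub_zero] at h5
    rcases hδ₀ with h | h <;> rcases hδ χ' hχ' with h' | h' <;> simp [h, h'] at h5

/-- Galois automorphisms fixing the roots of unity of order prime to `p` -/
theorem Canon.pow (hM : IsPModular p M) {χ : IrrCharacter G} (h : Canon p M χ) {κ : ℕ}
    (hκ : Nat.Coprime κ (Nat.card G)) (hκ1 : κ ≡ 1 [MOD Nat.card G / p ^ (Nat.card G).factorization p]) (g : G) :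
    (χ : G → ℂ) (g ^ κ) = (χ : G → ℂ) g := by
  have hMp := Blocks.Local.isPrime_of_isPModular hM
  have := Fintype.ofFinite G
  have hirr : IsIrrCharacter G (fun g => (χ : G → ℂ) (g ^ κ)) := Characters.GaloisIrr.isIrr_pow hκ χ.2
  have hreg : ∀ g : G, ¬ p ∣ orderOf g → (χ : G → ℂ) (g ^ κ) = (χ : G → ℂ) g := fun g hg => by
    rw [H657.pow_eq_of_isPRegular hκ1 hg]
  have hB := H608.BlockRank.isUnion_of_isPBlock (Blocks.PrincipalSection.isPBlock_principalBlock (M := M) (K := G))
  have hmem : (⟨_, hirr⟩ : IrrCharacter G) ∈ principalBlock M G := by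
    refine hB χ _ ?_ h.1
    refine Blocks.PRegular.sameBlock_of_isPRegular hM χ.2 hirr fun g hg => ?_
    have h1 : centralChar (χ : G → ℂ) g - centralChar (fun g => (χ : G → ℂ) (g ^ κ)) g = 0 := by
      rw [Blocks.Basic.centralChar_def, Blocks.Basic.centralChar_def, H657.pow_eq_of_isPRegular hκ1 hg, one_pow, sub_self]
    rw [h1]
    exact Blocks.Local.memLocalIdeal_zero
  have h1 := h.2 ⟨_, hirr⟩ hmem hreg
  have h2 := congrArg (fun ψ : IrrCharacter G => (ψ : G → ℂ) g) h1
  exact h2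

theorem Canon.pRat (hM : IsPModular p M) {χ : IrrCharacter G} (h : Canon p M χ) : PRat p (χ : G → ℂ) := by
  have hn0 : Nat.card G ≠ 0 := Nat.card_pos.ne'
  refine ⟨Nat.card G / p ^ (Nat.card G).factorization p, Nat.not_dvd_ordCompl hp.out hn0, fun g => ?_⟩
  exact H775.S4790.mem_adjoin_of_fixed (Nat.div_dvd_of_dvd (Nat.ordProj_dvd _ _)) χ.2
    (fun k hk hk1 g => h.pow hM hk hk1 g) g

omit [Finite G] hp in
theorem Canon.comp {χ : IrrCharacter G} (h : Canon p M χ) (e : G ≃* G) :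
    Canon p M (Blocks.ExtendedFMT.compIrr e χ) := by
  have key : ∀ (e : G ≃* G) (ψ : IrrCharacter G), ψ ∈ principalBlock M G →
      Blocks.ExtendedFMT.compIrr e ψ ∈ principalBlock M G := fun e ψ hψ =>
    Blocks.ExtendedFMT.sameBlock_compIrr (M := M) e (θ := ⟨fun _ => 1, isIrr_one⟩) (ψ := ψ) hψ
  refine ⟨key e χ h.1, fun ψ hψ hψe => ?_⟩
  have h1 := h.2 (Blocks.ExtendedFMT.compIrr e.symm ψ) (key e.symm ψ hψ) fun g hg => by
    rw [Blocks.ExtendedFMT.compIrr_apply, hψe _ (by rwa [MulEquiv.orderOf_eq]), Blocks.ExtendedFMT.compIrr_apply,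
      e.apply_symm_apply]
  rw [← h1, Blocks.ExtendedFMT.compIrr_compIrr_symm]

/-- a group with a cyclic Sylow `p`-subgroup and `e ≥ 2` has `1` to `p - 1` nontrivial `Canon` characters -/
theorem card_canon (hM : IsPModular p M) (P : Sylow p G) (hcyc : IsCyclic (P : Subgroup G)) (hP1 : Nat.card (P : Subgroup G) ≠ 1)
    (he : 2 ≤ (centralizer ((P : Subgroup G) : Set G)).relIndex (normalizer ((P : Subgroup G) : Set G))) :
    (∃ χ : IrrCharacter G, Canon p M χ ∧ (χ : G → ℂ) ≠ fun _ => 1) ∧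
    Nat.card {χ : IrrCharacter G // Canon p M χ ∧ (χ : G → ℂ) ≠ fun _ => 1} < p := by
  classical
  have hMp := Blocks.Local.isPrime_of_isPModular hM
  have hfin : Finite (IrrCharacter G) := finite_irr
  obtain ⟨a, ha⟩ := (IsPGroup.iff_card.1 P.2)
  have ha1 : 1 ≤ a := by
    rcases Nat.eq_zero_or_pos a with h | h
    · exact absurd (by rw [ha, h, pow_zero]) hP1
    · exact h
  obtain ⟨h0, hrk, -, X, Y, hXY, hdis, hX, hY, hYreg, δ, δ₀, hδ, hδ₀, hrel⟩ := block hM P hcyc ha1 ha rfl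
  set e := (centralizer ((P : Subgroup G) : Set G)).relIndex (normalizer ((P : Subgroup G) : Set G)) with hedef
  have hcan : ∀ χ ∈ X, Canon p M χ := fun χ hχ => canon_of_mem (p := p) he hrk hXY hX hδ hδ₀ hrel hχ
  have hp2 : 2 ≤ p := hp.out.two_le
  have hep : e ≤ p - 1 := Nat.le_of_dvd (by omega) h0
  have hX0 : X.Finite := Set.toFinite _
  have hY0 : Y.Finite := Set.toFinite _
  refine ⟨?_, ?_⟩
  · have hXn : 1 < X.ncard := by rw [← Nat.card_coe_set_eq, hX]; omega
    obtain ⟨χ, hχ, hne⟩ := Set.exists_ne_of_one_lt_ncard hXn ⟨fun _ => 1, isIrr_one⟩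
    exact ⟨χ, hcan χ hχ, fun h => hne (Subtype.ext h)⟩
  · rcases Nat.lt_or_ge 1 (Nat.card Y) with h1 | h1
    · have hYn : 1 < Y.ncard := by rwa [← Nat.card_coe_set_eq]
      have h2 : {χ : IrrCharacter G | Canon p M χ ∧ (χ : G → ℂ) ≠ fun _ => 1} ⊆ X := by
        rintro χ ⟨hχ, -⟩
        have h3 := hχ.1
        rw [hXY] at h3
        rcases h3 with h3 | h3
        · exact h3
        · obtain ⟨ψ, hψ, hne⟩ := Set.exists_ne_of_one_lt_ncard hYn χ
          exact absurd (hχ.2 ψ (by rw [hXY]; exact Or.inr hψ) (hYreg ψ hψ χ h3)) hne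
      have h3 := Set.ncard_le_ncard h2 hX0
      rw [← Nat.card_coe_set_eq, ← Nat.card_coe_set_eq, hX] at h3
      exact lt_of_le_of_lt h3 (by omega)
    · have h2 : insert (⟨fun _ => 1, isIrr_one⟩ : IrrCharacter G)
          {χ : IrrCharacter G | Canon p M χ ∧ (χ : G → ℂ) ≠ fun _ => 1} ⊆ X ∪ Y := by
        rw [← hXY]
        rintro χ (rfl | ⟨hχ, -⟩)
        · exact Blocks.PrincipalSection.one_mem_principalBlock
        · exact hχ.1
      have h3 := Set.ncard_le_ncard h2 (hX0.union hY0)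
      rw [Set.ncard_insert_of_notMem (fun h => h.2 rfl) (Set.toFinite _)] at h3
      have h4 := Set.ncard_union_le X Y
      rw [← Nat.card_coe_set_eq X, ← Nat.card_coe_set_eq Y, hX] at h4
      change Nat.card ↥{χ : IrrCharacter G | Canon p M χ ∧ (χ : G → ℂ) ≠ fun _ => 1} < p
      rw [Nat.card_coe_set_eq]
      omega

/-- **`p`-elements of `Aut G` fix the `Canon` characters.** -/
theorem fixed (hcard : Nat.card {χ : IrrCharacter G // Canon p M χ ∧ (χ : G → ℂ) ≠ fun _ => 1} < p)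
    {χ : IrrCharacter G} (h : Canon p M χ) (hχ : (χ : G → ℂ) ≠ fun _ => 1) (α : MulAut G) {k : ℕ} (hα : α ^ p ^ k = 1)
    (x : G) : (χ : G → ℂ) (α x) = (χ : G → ℂ) x := by
  classical
  have hfin : Finite (IrrCharacter G) := finite_irr
  set Z := {χ : IrrCharacter G // Canon p M χ ∧ (χ : G → ℂ) ≠ fun _ => 1} with hZ
  have : Fintype Z := Fintype.ofFinite _
  have hne : ∀ (e : G ≃* G) (ψ : IrrCharacter G), ((ψ : G → ℂ) ≠ fun _ => 1) →
      ((Blocks.ExtendedFMT.compIrr e ψ : G → ℂ) ≠ fun _ => 1) := by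
    intro e ψ hψ h1
    apply hψ
    funext g
    have h2 := congrFun h1 (e.symm g)
    rwa [Blocks.ExtendedFMT.compIrr_apply, e.apply_symm_apply] at h2
  let f : Equiv.Perm Z :=
    { toFun := fun ψ => ⟨Blocks.ExtendedFMT.compIrr α ψ.1, ψ.2.1.comp α, hne α _ ψ.2.2⟩
      invFun := fun ψ => ⟨Blocks.ExtendedFMT.compIrr α.symm ψ.1, ψ.2.1.comp α.symm, hne α.symm _ ψ.2.2⟩
      left_inv := fun ψ => Subtype.ext (Blocks.ExtendedFMT.compIrr_symm_compIrr _ _)
      right_inv := fun ψ => Subtype.ext (Blocks.ExtendedFMT.compIrr_compIrr_symm _ _) }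
  have hf : ∀ (n : ℕ) (ψ : Z) (x : G), (((f ^ n) ψ).1 : G → ℂ) x = (ψ.1 : G → ℂ) ((α ^ n) x) := by
    intro n
    induction n with
    | zero => intro ψ x; rfl
    | succ n ih =>
      intro ψ x
      rw [pow_succ, Equiv.Perm.mul_apply, ih, pow_succ']
      rfl
  have hf1 : f ^ p ^ k = 1 := by
    ext1 ψ
    apply Subtype.ext
    apply Subtype.ext
    funext x
    rw [hf, hα]
    rfl
  have h1 : orderOf f ∣ p ^ k := orderOf_dvd_of_pow_eq_one hf1
  have h2 : orderOf f ∣ (Fintype.card Z).factorial := by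
    have := orderOf_dvd_card (x := f)
    rwa [Fintype.card_perm] at this
  have h3 : ¬ p ∣ (Fintype.card Z).factorial := by
    rw [hp.out.dvd_factorial, ← Nat.card_eq_fintype_card]
    omega
  have h4 : orderOf f = 1 := by
    obtain ⟨i, -, hi⟩ := (Nat.dvd_prime_pow hp.out).1 h1
    rcases Nat.eq_zero_or_pos i with h | h
    · rw [hi, h, pow_zero]
    · exact absurd ((dvd_pow_self p h.ne').trans (hi ▸ h2)) h3
  rw [orderOf_eq_one_iff] at h4
  have h5 := hf 1 ⟨χ, h, hχ⟩ x
  rw [pow_one, pow_one, h4] at h5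
  exact h5.symm

/-- heights are zero -/
theorem not_dvd (hM : IsPModular p M) (P : Sylow p G) (hcyc : IsCyclic (P : Subgroup G)) (hP1 : Nat.card (P : Subgroup G) ≠ 1)
    {χ : IrrCharacter G} (hχ : χ ∈ principalBlock M G) : ¬ p ∣ charDegree (χ : G → ℂ) := by
  have hMp := Blocks.Local.isPrime_of_isPModular hM
  obtain ⟨a, ha⟩ := (IsPGroup.iff_card.1 P.2)
  have ha1 : 1 ≤ a := by
    rcases Nat.eq_zero_or_pos a with h | h
    · exact absurd (by rw [ha, h, pow_zero]) hP1
    · exact h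
  obtain ⟨-, -, hht, -⟩ := block hM P hcyc ha1 ha rfl
  have h1 := hht χ hχ
  have h0 : (0 : ℕ) ∈ ((fun ψ : IrrCharacter G => (charDegree (ψ : G → ℂ)).factorization p) '' (principalBlock M G)) := by
    refine ⟨⟨fun _ => 1, isIrr_one⟩, Blocks.PrincipalSection.one_mem_principalBlock, ?_⟩
    show (charDegree (fun _ : G => (1 : ℂ))).factorization p = 0
    rw [Blocks.Basic.charDegree_of_eq (n := 1) (by simp)]
    simp
  unfold blockHeight at h1
  rw [Nat.sInf_eq_zero.2 (Or.inl h0), Nat.sub_zero] at h1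
  intro h2
  have h3 := (hp.out.dvd_iff_one_le_factorization (Blocks.Basic.charDegree_pos χ.2).ne').1 h2
  omega

/-- Burnside -/
theorem two_le_relIndex [IsSimpleGroup G] (hna : ¬ IsMulCommutative G) (P : Sylow p G) (hcyc : IsCyclic (P : Subgroup G))
    (hP1 : Nat.card (P : Subgroup G) ≠ 1) :
    2 ≤ (centralizer ((P : Subgroup G) : Set G)).relIndex (normalizer ((P : Subgroup G) : Set G)) := by
  by_contra hlt
  have h0 : (centralizer ((P : Subgroup G) : Set G)).relIndex (normalizer ((P : Subgroup G) : Set G)) ≠ 0 :=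
    Subgroup.index_ne_zero_of_finite
  have h1 : (centralizer ((P : Subgroup G) : Set G)).relIndex (normalizer ((P : Subgroup G) : Set G)) = 1 := by omega
  rw [relIndex_eq_one] at h1
  have h2 := MonoidHom.ker_transferSylow_isComplement' P h1
  rcases IsSimpleGroup.eq_bot_or_eq_top_of_normal (MonoidHom.transferSylow P h1).ker inferInstance with h3 | h3
  · rw [h3] at h2
    have h4 : (P : Subgroup G) = ⊤ := by
      have := h2.symm
      rwa [isComplement'_bot_right] at this
    apply hna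
    rw [h4] at hcyc
    have h5 : IsCyclic G := isCyclic_of_surjective (Subgroup.topEquiv : (⊤ : Subgroup G) ≃* G) (Subgroup.topEquiv : (⊤ : Subgroup G) ≃* G).surjective
    exact ⟨⟨fun a b => (IsCyclic.commGroup (α := G)).mul_comm a b⟩⟩
  · rw [h3] at h2
    have h4 : (P : Subgroup G) = ⊥ := by
      rwa [isComplement'_top_left] at h2
    exact hP1 (by rw [h4]; exact Nat.card_unique)

/-- **The row of the simple groups with cyclic Sylow `p`-subgroups.** -/
theorem rowT_cyc (p : ℕ) [Fact p.Prime] (X : Type u) [Group X] [Finite X] [IsSimpleGroup X] (hna : ¬ IsMulCommutative X)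
    (hd : p ∣ Nat.card X) (hc : ∃ P : Sylow p X, IsCyclic (P : Subgroup X)) : RowT p X := by
  intro A hA M hM
  obtain ⟨P, hP⟩ := hc
  have hP1 : Nat.card (P : Subgroup X) ≠ 1 := by
    intro h
    have h1 := P.dvd_card_of_dvd_card hd
    rw [h] at h1
    exact (Fact.out : p.Prime).one_lt.ne' (Nat.dvd_one.1 h1)
  have he := two_le_relIndex hna P hP hP1
  obtain ⟨⟨χ, hχ, hχ1⟩, hlt⟩ := card_canon hM P hP hP1 he
  refine ⟨χ, ⟨hχ.1, hχ1, ?_, hχ.pRat hM⟩, fun a ha x => ?_⟩
  · exact not_dvd hM P hP hP1 hχ.1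
  · obtain ⟨k, hk⟩ := hA ⟨a, ha⟩
    exact fixed hlt hχ hχ1 a (congrArg Subtype.val hk) x

end Cfsg.Agent.H734.RB
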